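import Groth.Agent.DimFormulaLib.LocalDim
import Groth.Agent.DimFormulaLib.Fibre
import Groth.Agent.DimFormulaLib.Converse

/-!
# Transcendence degrees along flat local maps
-/

set_option autoImplicit false
set_option linter.style.haveILetI false
set_option maxHeartbeats 1000000
set_option backward.isDefEq.respectTransparency false

universe u

open MvPolynomial IsLocalRing TensorProduct

noncomputable section

namespace Groth.Agent.FlatTrdegLib

/-- In a flat algebra over a local ring, polynomial independence modulo the maximal ideal gives independence. -/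
theorem algebraicIndependent_of_flat_mod {A B : Type u} [CommRing A] [IsLocalRing A] [CommRing B] [Algebra A B]
    [Module.Flat A B] {n : ℕ} (T : Fin n → B)
    (h : ∀ P : MvPolynomial (Fin n) A, aeval T P ∈ (maximalIdeal A • ⊤ : Submodule A B) →
      ∀ α, coeff α P ∈ maximalIdeal A) : AlgebraicIndependent A T := by
  classical
  let mon : (Fin n →₀ ℕ) → B := fun α => α.prod fun i k => T i ^ k
  have hsum : ∀ P : MvPolynomial (Fin n) A, aeval T P = ∑ α ∈ P.support, coeff α P • mon α := fun P => by
    conv_lhs => rw [P.as_sum, map_sum]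
    exact Finset.sum_congr rfl fun α _ => by rw [aeval_monomial, ← Algebra.smul_def]
  have hli : LinearIndependent A mon := by
    refine Module.IsLocalRing.linearIndependent_of_flat mon (linearIndependent_iff'.mpr fun s g hg i hi => ?_)
    choose c hc using fun α => IsLocalRing.residue_surjective (g α)
    let P : MvPolynomial (Fin n) A := ∑ α ∈ s, monomial α (c α)
    have h1 : aeval T P ∈ (maximalIdeal A • ⊤ : Submodule A B) := by
      rw [← LinearMap.ker_tensorProductMk, LinearMap.mem_ker, map_sum, map_sum]
      refine (Finset.sum_congr rfl fun α _ => ?_).trans hg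
      rw [aeval_monomial, ← Algebra.smul_def, map_smul, ← hc α]
      exact (show residue A (c α) • ((1 : ResidueField A) ⊗ₜ[A] mon α) = c α • ((1 : ResidueField A) ⊗ₜ[A] mon α) from
        algebraMap_smul (ResidueField A) (c α) ((1 : ResidueField A) ⊗ₜ[A] mon α)).symm
    have h2 := h P h1 i
    rw [coeff_sum, Finset.sum_eq_single i (fun b _ hb => by rw [coeff_monomial, if_neg hb])
      (fun hn => absurd hi hn), coeff_monomial, if_pos rfl] at h2
    rw [← hc i]
    exact (IsLocalRing.residue_eq_zero_iff _).mpr h2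
  rw [algebraicIndependent_iff]
  intro P hP
  rw [hsum] at hP
  refine MvPolynomial.ext _ _ fun α => ?_
  by_cases hα : α ∈ P.support
  · exact (linearIndependent_iff'.mp hli _ _ hP α hα).trans (coeff_zero α).symm
  · rw [notMem_support_iff.mp hα, coeff_zero]

/-- The dimension formula for flat local homomorphisms of local domains essentially of finite type, on a
finite type model. -/
theorem exists_dims_of_model {A C B : Type u} [CommRing A] [IsDomain A] [IsLocalRing A] [CommRing C] [IsDomain C]
    [Algebra A C] [Algebra.FiniteType A C] [FaithfulSMul A C] [CommRing B] [IsDomain B] [IsLocalRing B]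
    [Algebra C B] [Algebra A B] [IsScalarTower A C B] [Module.Flat A B] [IsLocalHom (algebraMap A B)]
    (q : Ideal C) [q.IsPrime] [IsLocalization.AtPrime B q] :
    ∃ a e : ℕ, (q.LiesOver (maximalIdeal A)) ∧
      (∀ (_ : q.LiesOver (maximalIdeal A)),
        Algebra.trdeg (A ⧸ maximalIdeal A) (C ⧸ q) = e) ∧
      ringKrullDim (B ⧸ (maximalIdeal A).map (algebraMap A B)) = a ∧ Algebra.trdeg A C = (a + e : ℕ) := by
  let m := maximalIdeal A
  have hlocB : (maximalIdeal B).comap (algebraMap A B) = maximalIdeal A := by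
    have h : IsLocalHom (algebraMap A B) ↔ (maximalIdeal B).comap (algebraMap A B) = maximalIdeal A :=
      (local_hom_TFAE (algebraMap A B)).out 0 4
    exact h.mp inferInstance
  have hcomap : m = q.under A := by
    rw [Ideal.under_def, ← IsLocalization.AtPrime.under_maximalIdeal B q, Ideal.under_def, Ideal.comap_comap,
      ← IsScalarTower.algebraMap_eq]
    exact hlocB.symm
  haveI hlo : q.LiesOver m := ⟨hcomap⟩
  let k := m.ResidueField
  let F := m.Fiber C
  haveI : Algebra.FiniteType k F := inferInstance
  let Q : PrimeSpectrum F := PrimeSpectrum.preimageEquivFiber A C ⟨m, inferInstance⟩ ⟨⟨q, ‹_›⟩, PrimeSpectrum.ext hcomap.symm⟩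
  have hQ : Q.asIdeal.comap (Algebra.TensorProduct.includeRight : C →ₐ[A] F).toRingHom = q :=
    congrArg (fun z => z.1.asIdeal)
      ((PrimeSpectrum.preimageEquivFiber A C ⟨m, inferInstance⟩).symm_apply_apply ⟨⟨q, ‹_›⟩, PrimeSpectrum.ext hcomap.symm⟩)
  obtain ⟨e, he⟩ := DimFormulaLib.exists_nat_trdeg_quotient k F Q.asIdeal
  obtain ⟨a, ha, hloc, -⟩ := DimFormulaLib.localDim_eq_height_add k F Q e he
  refine ⟨a, e, hlo, fun _ => (DimFormulaLib.trdeg_fibre m q Q.asIdeal hQ).symm.trans he, ?_, ?_⟩
  · -- primes of `B ⧸ m B` are the primes of the fibre below `Q`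
    let I := m.map (algebraMap A B)
    have hI : I ≠ ⊤ := fun h => (maximalIdeal.isMaximal B).ne_top (eq_top_iff.mpr (h ▸
      Ideal.map_le_iff_le_comap.mpr fun r hr => Ideal.mem_comap.mpr (map_nonunit (algebraMap A B) r hr)))
    let E := PrimeSpectrum.preimageOrderIsoFiber A C ⟨m, inferInstance⟩
    let oB := IsLocalization.AtPrime.primeSpectrumOrderIso B q
    have hmem : ∀ P : PrimeSpectrum B, I ≤ P.asIdeal ↔
        PrimeSpectrum.comap (algebraMap A C) (oB P).1 = ⟨m, inferInstance⟩ := fun P => by
      constructor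
      · intro hP
        refine PrimeSpectrum.ext (le_antisymm (IsLocalRing.le_maximalIdeal ?_) ?_)
        · exact Ideal.IsPrime.ne_top inferInstance
        · intro r hr
          show algebraMap C B (algebraMap A C r) ∈ P.asIdeal
          rw [← IsScalarTower.algebraMap_apply]
          exact hP (Ideal.mem_map_of_mem _ hr)
      · intro hP
        refine Ideal.map_le_iff_le_comap.mpr fun r hr => ?_
        rw [Ideal.mem_comap, IsScalarTower.algebraMap_apply A C B]
        exact (SetLike.ext_iff.mp (congrArg PrimeSpectrum.asIdeal hP) r).mpr hr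
    let φ : {P : PrimeSpectrum B // P ∈ PrimeSpectrum.zeroLocus (I : Set B)} ≃o Set.Iic Q :=
      { toFun := fun P => ⟨E ⟨(oB P.1).1, (hmem P.1).mp P.2⟩, by
          rw [Set.mem_Iic, show Q = E ⟨⟨q, ‹_›⟩, PrimeSpectrum.ext hcomap.symm⟩ from rfl, E.le_iff_le]
          exact (oB P.1).2⟩
        invFun := fun R => ⟨oB.symm ⟨(E.symm R.1).1, by
            have h := R.2
            rw [Set.mem_Iic, ← E.symm.le_iff_le] at h
            exact le_of_le_of_eq (Subtype.coe_le_coe.mpr h) (congrArg Subtype.val
              (E.symm_apply_apply ⟨⟨q, ‹_›⟩, PrimeSpectrum.ext hcomap.symm⟩))⟩, by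
          refine (hmem _).mpr ?_
          rw [OrderIso.apply_symm_apply]
          exact (E.symm R.1).2⟩
        left_inv := fun P => Subtype.ext (by simp)
        right_inv := fun R => Subtype.ext (by simp)
        map_rel_iff' := by
          intro P P'
          show E _ ≤ E _ ↔ _
          rw [E.le_iff_le]
          exact oB.le_iff_le }
    rw [ringKrullDim_quotient, Order.krullDim_eq_of_orderIso φ, ← Order.height_eq_krullDim_Iic,
      ← PrimeSpectrum.height_eq_orderHeight, ha]
    rfl
  · -- upper bound
    obtain ⟨r, hr⟩ : ∃ r : ℕ, Algebra.trdeg A C = r := Cardinal.lt_aleph0.1 trdeg_lt_aleph0_of_finiteType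
    have hbot : (⊥ : Ideal C).under A = ⊥ := by
      rw [Ideal.under_def, ← RingHom.ker_eq_comap_bot]
      exact (RingHom.injective_iff_ker_eq_bot _).mp (FaithfulSMul.algebraMap_injective A C)
    have hle : r ≤ a + e := by
      have h := DimFormulaLib.trdeg_le_localDim_fibre (A := A) (⊥ : Ideal C) q bot_le m Q hQ (a + e) hloc
      have e1 : Algebra.trdeg (A ⧸ (⊥ : Ideal C).under A) (C ⧸ (⊥ : Ideal C)) = Algebra.trdeg A C :=
        DimFormulaLib.trdeg_eq_of_ringEquiv ((Ideal.quotEquivOfEq hbot).trans (RingEquiv.quotientBot A))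
          (RingEquiv.quotientBot C) fun x => by
            obtain ⟨x, rfl⟩ := Ideal.Quotient.mk_surjective x
            rfl
      rw [e1, hr] at h
      exact_mod_cast h
    -- lower bound from a component of the fibre
    haveI : IsNoetherianRing F := Algebra.FiniteType.isNoetherianRing k F
    obtain ⟨P, hPmin, hPQ, hPe⟩ := DimFormulaLib.exists_isMin_relHeight_eq_height Q
    obtain ⟨n, hn⟩ := DimFormulaLib.exists_nat_trdeg_quotient k F P.asIdeal
    obtain ⟨b, hb, hnb⟩ := DimFormulaLib.trdeg_eq_relHeight_add k F hPQ n e hn he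
    rw [hPe, ha] at hb
    have hab : a = b := by exact_mod_cast hb
    let P₀ := P.asIdeal.comap (Algebra.TensorProduct.includeRight : C →ₐ[A] F).toRingHom
    have hP₀q : P₀ ≤ q := hQ ▸ Ideal.comap_mono hPQ
    haveI : P₀.LiesOver m := ⟨(congrArg PrimeSpectrum.asIdeal
      ((PrimeSpectrum.preimageEquivFiber A C ⟨m, inferInstance⟩).symm P).2).symm⟩
    have hn0 : Algebra.trdeg (A ⧸ m) (C ⧸ P₀) = n := (DimFormulaLib.trdeg_fibre m P₀ P.asIdeal rfl).symm.trans hn
    haveI : FaithfulSMul (A ⧸ m) (C ⧸ P₀) :=
      (faithfulSMul_iff_algebraMap_injective _ _).2 (FaithfulSMul.algebraMap_injective (A ⧸ m) (C ⧸ P₀))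
    obtain ⟨ι, t, ht⟩ := exists_isTranscendenceBasis' (A ⧸ m) (C ⧸ P₀)
    have hcard : Cardinal.mk ι = n := by rw [ht.cardinalMk_eq_trdeg, hn0]
    haveI : Finite ι := Cardinal.lt_aleph0_iff_finite.mp (hcard ▸ Cardinal.natCast_lt_aleph0)
    cases nonempty_fintype ι
    obtain ⟨eι⟩ : Nonempty (Fin n ≃ ι) := ⟨(Fintype.equivFinOfCardEq (by
      rw [Cardinal.mk_fintype] at hcard
      exact_mod_cast hcard)).symm⟩
    choose T hT using fun i => Ideal.Quotient.mk_surjective (t (eι i))
    have hind : AlgebraicIndependent (A ⧸ m) (fun i => Ideal.Quotient.mk P₀ (T i)) := by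
      simp_rw [hT]
      exact ht.1.comp eι eι.injective
    have hTB : AlgebraicIndependent A (fun i => algebraMap C B (T i)) := by
      refine algebraicIndependent_of_flat_mod _ fun G hG α => ?_
      have hG' : algebraMap C B (aeval T G) ∈ (m.map (algebraMap A C)).map (algebraMap C B) := by
        rw [Ideal.map_map, ← IsScalarTower.algebraMap_eq, ← MvPolynomial.aeval_algebraMap_apply]
        refine Submodule.smul_induction_on hG (fun r hr x _ => ?_) fun x y hx hy => add_mem hx hy
        rw [Algebra.smul_def]
        exact Ideal.mul_mem_right _ _ (Ideal.mem_map_of_mem _ hr)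
      obtain ⟨s, hs, hsG⟩ := (IsLocalization.algebraMap_mem_map_algebraMap_iff q.primeCompl B _ _).mp hG'
      have h0 : Ideal.Quotient.mk P₀ (aeval T G) = 0 := by
        rw [Ideal.Quotient.eq_zero_iff_mem]
        exact ((inferInstance : P₀.IsPrime).mem_or_mem (Ideal.map_le_iff_le_comap.mpr
          (Ideal.LiesOver.over (p := m) (P := P₀)).le hsG)).resolve_left fun h => hs (hP₀q h)
      have h1 : aeval (fun i => Ideal.Quotient.mk P₀ (T i)) (MvPolynomial.map (algebraMap A (A ⧸ m)) G) = 0 := by
        rw [MvPolynomial.aeval_map_algebraMap, ← h0]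
        exact (MvPolynomial.comp_aeval_apply (φ := Ideal.Quotient.mkₐ A P₀) T G).symm
      have h2 := hind.eq_zero_of_aeval_eq_zero _ h1
      have h3 := congrArg (coeff α) h2
      rw [coeff_map, coeff_zero] at h3
      exact Ideal.Quotient.eq_zero_iff_mem.mp h3
    have hTC : AlgebraicIndependent A T := AlgebraicIndependent.of_comp (IsScalarTower.toAlgHom A C B) hTB
    have hge : n ≤ r := by
      have h := hTC.lift_cardinalMk_le_trdeg
      rw [Cardinal.mk_fin, hr, Cardinal.lift_natCast, Cardinal.lift_natCast] at h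
      exact_mod_cast h
    rw [hr]
    exact_mod_cast (show r = a + e by omega)

end Groth.Agent.FlatTrdegLib
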